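import Groth.Prelude.Def_CAlg2
import Groth.Agent.CAlgH3.MoriFamily
import Mathlib.AlgebraicGeometry.Geometrically.Reduced
import Mathlib.RingTheory.Ideal.GoingDown

/-!
# Connectedness of the generic fibre (EGA IV 18.9.8)

A flat local algebra with geometrically reduced fibres over a geometrically unibranch Noetherian
local ring has connected generic fibre: an idempotent of the generic fibre is defined over the
normalisation, as it is defined over every discrete valuation ring cutting it out.
-/

set_option autoImplicit false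
set_option backward.isDefEq.respectTransparency false
set_option linter.style.haveILetI false

universe u

open TensorProduct CategoryTheory AlgebraicGeometry

namespace Groth.Agent.EGA43.ConnFlat

open Groth.Agent

/-- Geometrically reduced fibres, in ring language. -/
theorem isReduced_tensor (A B : Type u) [CommRing A] [CommRing B] [Algebra A B]
    [GeometricallyReduced (Spec.map (CommRingCat.ofHom (algebraMap A B)))]
    (F : Type u) [Field F] [Algebra A F] : _root_.IsReduced (F ⊗[A] B) := by
  have h := pullback_of_geometrically'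
    (GeometricallyReduced.geometrically_isReduced (f := Spec.map (CommRingCat.ofHom (algebraMap A B)))) F
    (Spec.map (CommRingCat.ofHom (algebraMap A F)))
  have : IsReduced (Spec (.of (F ⊗[A] B))) := isReduced_of_isOpenImmersion (pullbackSpecIso A F B).inv
  exact (affine_isReduced_iff _).1 this

section DVR

variable {A B : Type u} [CommRing A] [CommRing B] [Algebra A B] [Module.Flat A B]
  {K : Type u} [Field K] [Algebra A K]

/-- Idempotents of `K ⊗ B` are defined over every discrete valuation subring. -/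
theorem idempotent_mem_range (W : ValuationSubring K) [IsDiscreteValuationRing W] [Algebra A W]
    [IsScalarTower A W K] (hred : _root_.IsReduced (IsLocalRing.ResidueField W ⊗[A] B))
    {e : K ⊗[A] B} (he : IsIdempotentElem e) :
    e ∈ Set.range (Algebra.TensorProduct.map (IsScalarTower.toAlgHom A W K) (AlgHom.id A B)) := by
  classical
  let ι := Algebra.TensorProduct.map (IsScalarTower.toAlgHom A W K) (AlgHom.id A B)
  have hι : Function.Injective ι := fun a b hab =>
    Module.Flat.rTensor_preserves_injective_linearMap (M := B) (IsScalarTower.toAlgHom A W K).toLinearMap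
      (fun a b h => Subtype.ext h) hab
  obtain ⟨ϖ, hϖ⟩ := IsDiscreteValuationRing.exists_irreducible W
  let t : W ⊗[A] B := ϖ ⊗ₜ[A] 1
  have hk : ∀ k : K, ∃ (n : ℕ) (w : W), (ϖ : K) ^ n * k = w := fun k => by
    rcases W.mem_or_inv_mem k with hk | hk
    · exact ⟨0, ⟨k, hk⟩, by simp⟩
    · by_cases hk0 : k = 0
      · exact ⟨0, 0, by simp [hk0]⟩
      obtain ⟨n, v, hv⟩ := IsDiscreteValuationRing.eq_unit_mul_pow_irreducible
        (x := (⟨k⁻¹, hk⟩ : W)) (fun h => inv_ne_zero hk0 (congrArg Subtype.val h)) hϖ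
      refine ⟨n, ↑v⁻¹, ?_⟩
      have hv' : k⁻¹ = ((v : W) : K) * (ϖ : K) ^ n := congrArg Subtype.val hv
      have hvv : ((v : W) : K) * ((↑v⁻¹ : W) : K) = 1 := congrArg Subtype.val v.mul_inv
      have h1 : ((v : W) : K) * (ϖ : K) ^ n * k = 1 := by rw [← hv', inv_mul_cancel₀ hk0]
      calc (ϖ : K) ^ n * k = ((v : W) : K) * ((↑v⁻¹ : W) : K) * ((ϖ : K) ^ n * k) := by rw [hvv, one_mul]
        _ = ((↑v⁻¹ : W) : K) * (((v : W) : K) * (ϖ : K) ^ n * k) := by ring
        _ = _ := by rw [h1, mul_one]
  have hex : ∀ z : K ⊗[A] B, ∃ (n : ℕ) (w : W ⊗[A] B), ι t ^ n * z = ι w := by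
    intro z
    induction z with
    | zero => exact ⟨0, 0, by simp⟩
    | tmul k b =>
      obtain ⟨n, w, hw⟩ := hk k
      refine ⟨n, w ⊗ₜ b, ?_⟩
      rw [← map_pow, Algebra.TensorProduct.tmul_pow, one_pow, Algebra.TensorProduct.map_tmul,
        Algebra.TensorProduct.map_tmul, map_pow, map_one, Algebra.TensorProduct.tmul_mul_tmul, one_mul,
        AlgHom.id_apply]
      exact congrArg (fun x : K => x ⊗ₜ[A] b) hw
    | add z z' hz hz' =>
      obtain ⟨n, w, hw⟩ := hz
      obtain ⟨n', w', hw'⟩ := hz'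
      exact ⟨n + n', t ^ n' * w + t ^ n * w', by rw [map_add, map_mul, map_mul, map_pow, map_pow, ← hw, ← hw']; ring⟩
  have hP := Nat.find_spec (hex e)
  obtain ⟨w, hw⟩ := hP
  rcases hn : Nat.find (hex e) with _ | n
  · rw [hn] at hw
    exact ⟨w, by rw [← show ι t ^ 0 * e = e by simp]; exact hw.symm⟩
  exfalso
  rw [hn] at hw
  -- `w` is divisible by the uniformizer
  have hw2 : w * w = t ^ (n + 1) * w := hι (by
    rw [map_mul, map_mul, map_pow, ← hw, show ι t ^ (n + 1) * e * (ι t ^ (n + 1) * e) =
      ι t ^ (n + 1) * (ι t ^ (n + 1) * (e * e)) by ring, he.eq])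
  let r := Algebra.TensorProduct.map (IsScalarTower.toAlgHom A W (IsLocalRing.ResidueField W)) (AlgHom.id A B)
  have hrt : r t = 0 := by
    rw [Algebra.TensorProduct.map_tmul]
    show (IsLocalRing.residue W ϖ) ⊗ₜ[A] _ = (0 : IsLocalRing.ResidueField W ⊗[A] B)
    rw [(IsLocalRing.residue_eq_zero_iff ϖ).2 hϖ.not_isUnit, zero_tmul]
  have hrw : r w = 0 := IsReduced.eq_zero _ ⟨2, by rw [pow_two, ← map_mul, hw2, map_mul, map_pow, hrt]; simp⟩
  have hrs : Function.Surjective (IsScalarTower.toAlgHom A W (IsLocalRing.ResidueField W)) :=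
    IsLocalRing.residue_surjective
  obtain ⟨w', hw'⟩ : ∃ w', w = w' * t := by
    have hmem : w ∈ RingHom.ker r := hrw
    rw [Algebra.TensorProduct.map_ker _ _ hrs Function.surjective_id] at hmem
    have hle : (RingHom.ker (IsScalarTower.toAlgHom A W (IsLocalRing.ResidueField W))).map
          (Algebra.TensorProduct.includeLeft : W →ₐ[A] W ⊗[A] B) ⊔
        (RingHom.ker (AlgHom.id A B)).map (Algebra.TensorProduct.includeRight : B →ₐ[A] W ⊗[A] B) ≤
          Ideal.span {t} := by
      refine sup_le ?_ ?_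
      · rw [Ideal.map_le_iff_le_comap]
        intro x hx
        have hx' : x ∈ IsLocalRing.maximalIdeal W := (IsLocalRing.residue_eq_zero_iff x).1 hx
        rw [hϖ.maximalIdeal_eq, Ideal.mem_span_singleton'] at hx'
        obtain ⟨a, rfl⟩ := hx'
        rw [Ideal.mem_comap, map_mul]
        exact Ideal.mul_mem_left _ _ (Ideal.mem_span_singleton_self t)
      · rw [Ideal.map_le_iff_le_comap]
        intro x hx
        rw [show x = 0 from hx]
        exact zero_mem _
    obtain ⟨a, ha⟩ := Ideal.mem_span_singleton'.1 (hle hmem)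
    exact ⟨a, ha.symm⟩
  have htunit : IsUnit (ι t) := by
    rw [Algebra.TensorProduct.map_tmul, map_one]
    exact (isUnit_iff_ne_zero.2 (fun h : (ϖ : K) = 0 => hϖ.ne_zero (Subtype.ext h))).map
      (Algebra.TensorProduct.includeLeft : K →ₐ[A] K ⊗[A] B)
  refine Nat.find_min (hex e) (m := n) (by omega) ⟨w', htunit.mul_left_cancel ?_⟩
  rw [← mul_assoc, ← pow_succ', hw, hw', map_mul, mul_comm]

end DVR

section Range

variable {A B : Type u} [CommRing A] [CommRing B] [Algebra A B] [Module.Flat A B]
  {K : Type u} [AddCommGroup K] [Module A K]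

/-- Flatness turns finite intersections into intersections. -/
theorem mem_range_inf (N W : Submodule A K) {e : K ⊗[A] B}
    (hN : e ∈ LinearMap.range (N.subtype.rTensor B)) (hW : e ∈ LinearMap.range (W.subtype.rTensor B)) :
    e ∈ LinearMap.range ((N ⊓ W).subtype.rTensor B) := by
  obtain ⟨z, rfl⟩ := hN
  obtain ⟨y, hy⟩ := hW
  let h := W.mkQ.comp N.subtype
  have hz : h.rTensor B z = 0 := by
    rw [LinearMap.rTensor_comp_apply, ← hy, ← LinearMap.rTensor_comp_apply,
      show W.mkQ.comp W.subtype = 0 from LinearMap.ext fun w => (Submodule.Quotient.mk_eq_zero _).2 w.2,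
      LinearMap.rTensor_zero, LinearMap.zero_apply]
  obtain ⟨v, rfl⟩ := (Module.Flat.rTensor_exact B h.exact_subtype_ker_map z).1 hz
  let j : LinearMap.ker h →ₗ[A] ↥(N ⊓ W) :=
    LinearMap.codRestrict _ (N.subtype.comp (LinearMap.ker h).subtype)
      fun c => ⟨c.1.2, (Submodule.Quotient.mk_eq_zero W).1 c.2⟩
  refine ⟨j.rTensor B v, ?_⟩
  rw [← LinearMap.rTensor_comp_apply, ← LinearMap.rTensor_comp_apply]
  rfl

theorem range_rTensor_mono {N W : Submodule A K} (h : N ≤ W) :
    LinearMap.range (N.subtype.rTensor B) ≤ LinearMap.range (W.subtype.rTensor B) := by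
  rintro _ ⟨z, rfl⟩
  refine ⟨(Submodule.inclusion h).rTensor B z, ?_⟩
  rw [← LinearMap.rTensor_comp_apply]
  rfl

theorem mem_range_finset_inf {ι : Type*} (N : Submodule A K) (F : Finset ι) (W : ι → Submodule A K) {e : K ⊗[A] B}
    (hN : e ∈ LinearMap.range (N.subtype.rTensor B)) (hW : ∀ i ∈ F, e ∈ LinearMap.range ((W i).subtype.rTensor B)) :
    e ∈ LinearMap.range ((N ⊓ F.inf W).subtype.rTensor B) := by
  classical
  induction F using Finset.induction_on with
  | empty => rw [Finset.inf_empty, inf_top_eq]; exact hN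
  | insert a s ha ih =>
    rw [Finset.inf_insert]
    refine range_rTensor_mono (by simp only [le_inf_iff]; exact ⟨inf_le_left.trans inf_le_left, inf_le_right, inf_le_left.trans inf_le_right⟩)
      (mem_range_inf _ (W a) (ih fun i hi => hW i (Finset.mem_insert_of_mem hi)) (hW a (Finset.mem_insert_self a s)))

end Range

/-- An integral local extension with purely inseparable residue extension stays local after base change,
so it has no new idempotents. -/
theorem idempotent_trivial_of_isLocal {A A' B : Type u} [CommRing A] [IsLocalRing A] [CommRing A'] [IsLocalRing A']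
    [Algebra A A'] [Algebra.IsIntegral A A'] [CommRing B] [IsLocalRing B] [Algebra A B]
    [IsLocalHom (algebraMap A B)] (p : ℕ) (hp' : ExpChar (A' ⧸ IsLocalRing.maximalIdeal A') p)
    (hpx : ∀ x : A', ∃ (n : ℕ) (c : A), x ^ p ^ n - algebraMap A A' c ∈ IsLocalRing.maximalIdeal A')
    {e' : A' ⊗[A] B} (he'i : IsIdempotentElem e') : e' = 0 ∨ e' = 1 := by
  classical
  let R := A' ⊗[A] B
  let m' := IsLocalRing.maximalIdeal A'
  haveI := hp'
  let inl : A' →ₐ[A] R := Algebra.TensorProduct.includeLeft
  let inr : B →ₐ[A] R := Algebra.TensorProduct.includeRight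
  have hint : (inr : B →+* R).IsIntegral := by
    intro z
    induction z using TensorProduct.induction_on with
    | zero => exact RingHom.isIntegralElem_zero _
    | tmul x y =>
      rw [show x ⊗ₜ[A] y = inl x * inr y by show _ = (x ⊗ₜ[A] (1 : B)) * ((1 : A') ⊗ₜ[A] y); simp]
      refine RingHom.IsIntegralElem.mul _ ?_ (RingHom.isIntegralElem_map _)
      obtain ⟨P, hP, hPx⟩ := Algebra.IsIntegral.isIntegral (R := A) x
      refine ⟨P.map (algebraMap A B), hP.map _, ?_⟩
      have h2 : Polynomial.eval₂ (algebraMap A R) (inl x) P = 0 := by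
        rw [← inl.comp_algebraMap]
        exact (Polynomial.hom_eval₂ P (algebraMap A A') (inl : A' →+* R) x).symm.trans (by rw [hPx, map_zero])
      rw [Polynomial.eval₂_map]
      show Polynomial.eval₂ ((inr : B →+* R).comp (algebraMap A B)) (inl x) P = 0
      rw [inr.comp_algebraMap]
      exact h2
    | add x y hx hy => exact RingHom.IsIntegralElem.add _ hx hy
  have hmax : ∀ M : Ideal R, M.IsMaximal → M.comap inl = m' ∧ M.comap (inr : B →+* R) = IsLocalRing.maximalIdeal B := by
    intro M hM
    haveI : (M.comap (inr : B →+* R)).IsMaximal := Ideal.isMaximal_comap_of_isIntegral_of_isMaximal' _ hint M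
    have h2 : M.comap (inr : B →+* R) = IsLocalRing.maximalIdeal B := IsLocalRing.eq_maximalIdeal inferInstance
    refine ⟨?_, h2⟩
    haveI : (M.comap inl).IsPrime := Ideal.comap_isPrime _ _
    haveI : (M.comap inl).IsMaximal := by
      refine Ideal.isMaximal_of_isIntegral_of_isMaximal_comap (R := A) _ ?_
      have h3 : (M.comap inl).comap (algebraMap A A') = IsLocalRing.maximalIdeal A := by
        have h4 : (IsLocalRing.maximalIdeal B).comap (algebraMap A B) = IsLocalRing.maximalIdeal A :=
          ((IsLocalRing.local_hom_TFAE (algebraMap A B)).out 0 4).1 ‹_›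
        rw [← h4, ← h2]
        ext x
        show inl (algebraMap A A' x) ∈ M ↔ inr (algebraMap A B x) ∈ M
        rw [inl.commutes, inr.commutes]
      rw [h3]; infer_instance
    exact IsLocalRing.eq_maximalIdeal inferInstance
  have hfrob : ∀ z : R, ∃ (n : ℕ) (β : B), ∀ M : Ideal R, M.IsMaximal → z ^ p ^ n - inr β ∈ M := by
    intro z
    induction z using TensorProduct.induction_on with
    | zero => exact ⟨0, 0, fun M _ => by simp⟩
    | tmul x y =>
      obtain ⟨n, c, hc'⟩ := hpx x
      refine ⟨n, algebraMap A B c * y ^ p ^ n, fun M hM => ?_⟩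
      rw [show x ⊗ₜ[A] y = inl x * inr y by show _ = (x ⊗ₜ[A] (1 : B)) * ((1 : A') ⊗ₜ[A] y); simp, mul_pow, map_mul, map_pow inr, inr.commutes,
        ← inl.commutes, ← map_pow, ← sub_mul, ← map_sub]
      refine M.mul_mem_right _ ?_
      have : x ^ p ^ n - algebraMap A A' c ∈ M.comap inl := by rw [(hmax M hM).1]; exact hc'
      exact this
    | add x y hx hy =>
      obtain ⟨n, β, hn⟩ := hx
      obtain ⟨n', β', hn'⟩ := hy
      refine ⟨n + n', β ^ p ^ n' + β' ^ p ^ n, fun M hM => ?_⟩
      letI := Ideal.Quotient.field M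
      haveI : ExpChar (R ⧸ M) p := by
        let j : A' ⧸ m' →+* R ⧸ M := Ideal.quotientMap M inl.toRingHom (hmax M hM).1.ge
        letI := Ideal.Quotient.field m'
        exact expChar_of_injective_ringHom j.injective p
      have h1 : Ideal.Quotient.mk M x ^ p ^ n = Ideal.Quotient.mk M (inr β) := by
        rw [← map_pow]; exact Ideal.Quotient.eq.2 (hn M hM)
      have h2 : Ideal.Quotient.mk M y ^ p ^ n' = Ideal.Quotient.mk M (inr β') := by
        rw [← map_pow]; exact Ideal.Quotient.eq.2 (hn' M hM)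
      rw [← Ideal.Quotient.eq, map_pow, map_add, add_pow_expChar_pow, map_add, map_add]
      simp only [map_pow]
      rw [← h1, ← h2, ← pow_mul, ← pow_mul, ← pow_add, ← pow_add, Nat.add_comm n' n]
  obtain ⟨n, β, hβ⟩ := hfrob e'
  have hp : p ^ n ≠ 0 := pow_ne_zero _ (by
    letI := Ideal.Quotient.field m'
    exact (expChar_pos (A' ⧸ m') p).ne')
  rw [he'i.pow_eq hp] at hβ
  by_cases hu : IsUnit β
  · right
    refine (IsIdempotentElem.iff_eq_one_of_isUnit ?_).1 he'i
    by_contra hnu
    obtain ⟨M, hM, hzM⟩ := exists_max_ideal_of_mem_nonunits hnu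
    exact hM.ne_top (Ideal.eq_top_of_isUnit_mem _ (by simpa using M.sub_mem hzM (hβ M hM)) (hu.map inr))
  · left
    have h1 : IsUnit (1 - e') := by
      by_contra hnu
      obtain ⟨M, hM, hzM⟩ := exists_max_ideal_of_mem_nonunits hnu
      have hβM : inr β ∈ M := by
        have : β ∈ M.comap (inr : B →+* R) := by rw [(hmax M hM).2]; exact hu
        exact this
      have he'M : e' ∈ M := by simpa using M.add_mem (hβ M hM) hβM
      exact hM.ne_top ((Ideal.eq_top_iff_one _).2 (by simpa using M.add_mem hzM he'M))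
    have := (IsIdempotentElem.iff_eq_one_of_isUnit h1).1 he'i.one_sub
    exact sub_eq_self.1 this


theorem injective_map_id {A B C D : Type u} [CommRing A] [CommRing B] [CommRing C] [CommRing D] [Algebra A B]
    [Algebra A C] [Algebra A D] [Module.Flat A B] (f : C →ₐ[A] D) (hf : Function.Injective f) :
    Function.Injective (Algebra.TensorProduct.map f (AlgHom.id A B)) :=
  fun _ _ hab => Module.Flat.rTensor_preserves_injective_linearMap (M := B) f.toLinearMap hf hab

theorem idem_of_injective {R S F : Type u} [Mul R] [Mul S] [FunLike F R S] [MulHomClass F R S] {f : F} {x : R}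
    (hf : Function.Injective f) (h : IsIdempotentElem (f x)) : IsIdempotentElem x :=
  hf (by rw [map_mul]; exact h.eq)

theorem connected_generic_fibre (A B : Type u) [CommRing A] [IsLocalRing A] [IsNoetherianRing A] [CommRing B]
    [IsLocalRing B] [Algebra A B] [IsLocalHom (algebraMap A B)] [Module.Flat A B]
    [GeometricallyReduced (Spec.map (CommRingCat.ofHom (algebraMap A B)))]
    (hA : CAlg2.IsGeomUnibranch A) {e : FractionRing (CAlg2.red A) ⊗[A] B} (he : IsIdempotentElem e) :
    e = 0 ∨ e = 1 := by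
  classical
  let A₀ := CAlg2.red A
  let K := FractionRing A₀
  haveI : IsDomain A₀ := hA.1.1
  haveI : IsLocalRing (CAlg2.normRed A) := hA.1.2
  haveI : Nontrivial A₀ := inferInstance
  haveI : IsLocalRing A₀ := IsLocalRing.of_surjective' (Ideal.Quotient.mk _) Ideal.Quotient.mk_surjective
  haveI : IsNoetherianRing A₀ := inferInstanceAs (IsNoetherianRing (A ⧸ nilradical A))
  let A' := integralClosure A₀ K
  obtain ⟨𝒲, -, h𝒲, -, -⟩ := CAlgH3.Mori.exists_family A₀ K
  -- a common denominator
  obtain ⟨a, ha0, b, hb⟩ : ∃ (a : A) (_ : algebraMap A K a ≠ 0) (b : B), e = (algebraMap A K a)⁻¹ ⊗ₜ[A] b := by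
    clear he
    induction e with
    | zero => exact ⟨1, by simp, 0, by simp⟩
    | tmul k b =>
      obtain ⟨c, d, hd, hcd⟩ := IsFractionRing.div_surjective A₀ k
      obtain ⟨c, rfl⟩ := Ideal.Quotient.mk_surjective c
      obtain ⟨d, rfl⟩ := Ideal.Quotient.mk_surjective d
      refine ⟨d, (IsScalarTower.algebraMap_apply A A₀ K d).trans_ne (IsFractionRing.to_map_ne_zero_of_mem_nonZeroDivisors hd), c • b, ?_⟩
      rw [← hcd, tmul_smul, smul_tmul', Algebra.smul_def, div_eq_mul_inv]
      rfl
    | add x y hx hy =>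
      obtain ⟨a, ha, b, rfl⟩ := hx
      obtain ⟨a', ha', b', rfl⟩ := hy
      refine ⟨a * a', by rw [map_mul]; exact mul_ne_zero ha ha', a' • b + a • b', ?_⟩
      rw [tmul_add, tmul_smul, tmul_smul, smul_tmul', smul_tmul', Algebra.smul_def, Algebra.smul_def, map_mul]
      congr 2
      · rw [mul_inv_rev, ← mul_assoc, mul_inv_cancel₀ ha', one_mul]
      · rw [mul_inv, ← mul_assoc, mul_inv_cancel₀ ha, one_mul]
  have hAW : ∀ W ∈ 𝒲, ∀ x : A, algebraMap A K x ∈ W := fun W hW x =>
    (h𝒲.mem_iff _).1 (show algebraMap A K x ∈ (integralClosure A₀ K).toSubring from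
      (integralClosure A₀ K).algebraMap_mem (Ideal.Quotient.mk _ x)) W hW
  let WA : {W // W ∈ 𝒲} → Submodule A K := fun W =>
    { carrier := (W.1 : Set K)
      add_mem' := fun ha hb => W.1.add_mem _ _ ha hb
      zero_mem' := W.1.zero_mem
      smul_mem' := fun c x hx => by
        rw [Algebra.smul_def]; exact W.1.mul_mem _ _ (hAW W.1 W.2 c) hx }
  have hWe : ∀ W, e ∈ LinearMap.range ((WA W).subtype.rTensor B) := fun W => by
    haveI := h𝒲.dvr W.1 W.2
    letI : Algebra A W.1 := ((algebraMap A K).codRestrict W.1 (hAW W.1 W.2)).toAlgebra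
    haveI : IsScalarTower A W.1 K := IsScalarTower.of_algebraMap_eq fun _ => rfl
    obtain ⟨z, hz⟩ := idempotent_mem_range W.1 (isReduced_tensor A B _) he
    let j : W.1 →ₗ[A] ↥(WA W) :=
      LinearMap.codRestrict _ (IsScalarTower.toAlgHom A W.1 K).toLinearMap fun w => w.2
    refine ⟨j.rTensor B z, ?_⟩
    rw [← LinearMap.rTensor_comp_apply, ← hz]
    rfl
  let F := ((h𝒲.finite (algebraMap A K a)⁻¹).toFinset).subtype (fun W => W ∈ 𝒲)
  let g : ↥A' →ₗ[A] K := (algebraMap A K a)⁻¹ • (IsScalarTower.toAlgHom A (↥A') K).toLinearMap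
  have hN : e ∈ LinearMap.range ((LinearMap.range g).subtype.rTensor B) := by
    refine ⟨(g.rangeRestrict 1) ⊗ₜ b, ?_⟩
    rw [LinearMap.rTensor_tmul, hb]
    congr 1
    show (algebraMap A K a)⁻¹ • (1 : K) = _
    rw [smul_eq_mul, mul_one]
  have hle : LinearMap.range g ⊓ F.inf WA ≤ LinearMap.range (IsScalarTower.toAlgHom A (↥A') K).toLinearMap := by
    rintro _ ⟨⟨x, rfl⟩, hxF⟩
    refine ⟨⟨_, (h𝒲.mem_iff (g x)).2 fun W hW => ?_⟩, rfl⟩
    by_cases hWF : (algebraMap A K a)⁻¹ ∈ W
    · exact W.mul_mem _ _ hWF ((h𝒲.mem_iff _).1 x.2 W hW)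
    · exact (Finset.inf_le (f := WA) (b := ⟨W, hW⟩) (Finset.mem_subtype.2 ((h𝒲.finite _).mem_toFinset.2 ⟨hW, hWF⟩))) hxF
  obtain ⟨e', he'⟩ : ∃ e', (Algebra.TensorProduct.map (IsScalarTower.toAlgHom A (↥A') K) (AlgHom.id A B)) e' = e := by
    obtain ⟨z, hz⟩ := range_rTensor_mono hle (mem_range_finset_inf _ F WA hN fun W _ => hWe W)
    obtain ⟨z', rfl⟩ := LinearMap.rTensor_surjective B
      (IsScalarTower.toAlgHom A (↥A') K).toLinearMap.surjective_rangeRestrict z
    refine ⟨z', ?_⟩
    rw [← hz, ← LinearMap.rTensor_comp_apply]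
    rfl
  have he'i : IsIdempotentElem e' := by
    refine idem_of_injective ?_ ?_ (f := Algebra.TensorProduct.map (IsScalarTower.toAlgHom A (↥A') K) (AlgHom.id A B))
    · exact injective_map_id (IsScalarTower.toAlgHom A (↥A') K) (fun a b h => Subtype.ext h)
    · rw [he']; exact he
  rw [← he']
  suffices e' = 0 ∨ e' = 1 from this.imp (fun h => by rw [h, map_zero]) (fun h => by rw [h, map_one])
  haveI : Algebra.IsIntegral A A₀ := Algebra.IsIntegral.of_finite A A₀
  haveI : Algebra.IsIntegral A (↥A') := Algebra.IsIntegral.trans A₀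
  let m' : Ideal (CAlg2.normRed A) := IsLocalRing.maximalIdeal (CAlg2.normRed A)
  haveI : IsLocalRing (↥A') := hA.1.2
  refine idempotent_trivial_of_isLocal (ringExpChar (CAlg2.normRed A ⧸ m'))
    (by letI := Ideal.Quotient.field m'; exact inferInstanceAs (ExpChar (CAlg2.normRed A ⧸ m') _)) (fun x => ?_) he'i
  obtain ⟨n, c, hc⟩ := hA.2 m' (Ideal.Quotient.mk _ x)
  refine ⟨n, c, ?_⟩
  show (x : CAlg2.normRed A) ^ _ - _ ∈ m'
  rw [← Ideal.Quotient.eq, map_pow]
  exact hc.symm

/-- The complement of a closed set not dominating the base is connected. -/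
theorem isConnected_compl (A B : Type u) [CommRing A] [IsLocalRing A]
    [IsNoetherianRing A] [CommRing B] [IsLocalRing B] [Algebra A B]
    [IsLocalHom (algebraMap A B)] [Module.Flat A B]
    [GeometricallyReduced (Spec.map (CommRingCat.ofHom (algebraMap A B)))]
    (hA : CAlg2.IsGeomUnibranch A) (T : Set (PrimeSpectrum B))
    (hT' : interior (closure (PrimeSpectrum.comap (algebraMap A B) '' T)) = ∅) :
    _root_.IsConnected Tᶜ := by
  classical
  haveI : IsDomain (CAlg2.red A) := hA.1.1
  haveI hp₀ : (nilradical A).IsPrime := (Ideal.Quotient.isDomain_iff_prime _).1 hA.1.1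
  let K := FractionRing (CAlg2.red A)
  let φ : B →ₐ[A] K ⊗[A] B := Algebra.TensorProduct.includeRight
  let S := Set.range (PrimeSpectrum.comap φ.toRingHom)
  have hKker : ∀ x : A, algebraMap A K x = 0 ↔ x ∈ nilradical A := fun x => by
    rw [IsScalarTower.algebraMap_apply A (CAlg2.red A) K,
      IsFractionRing.to_map_eq_zero_iff]
    exact Ideal.Quotient.eq_zero_iff_mem
  -- the generic fibre avoids `T`
  have hST : S ⊆ Tᶜ := by
    rintro _ ⟨P, rfl⟩ hPT
    have hmem : (⟨nilradical A, hp₀⟩ : PrimeSpectrum A) ∈ PrimeSpectrum.comap (algebraMap A B) '' T := by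
      refine ⟨_, hPT, PrimeSpectrum.ext (le_antisymm (fun x hx => ?_) (fun x hx => nilradical_le_prime _ hx))⟩
      · by_contra hx'
        have hne : algebraMap A K x ≠ 0 := fun h => hx' ((hKker x).1 h)
        have hxP : algebraMap A (K ⊗[A] B) x ∈ P.asIdeal := by
          rw [← φ.commutes x]; exact hx
        refine P.isPrime.ne_top (Ideal.eq_top_of_isUnit_mem _ hxP ?_)
        rw [IsScalarTower.algebraMap_apply A K (K ⊗[A] B)]
        exact (isUnit_iff_ne_zero.2 hne).map _
    have huniv : closure (PrimeSpectrum.comap (algebraMap A B) '' T) = Set.univ := by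
      refine Set.eq_univ_of_forall fun q => ?_
      refine closure_mono (Set.singleton_subset_iff.2 hmem) ?_
      exact ((PrimeSpectrum.le_iff_specializes ⟨nilradical A, hp₀⟩ q).1 (nilradical_le_prime q.asIdeal)).mem_closure
    rw [huniv, interior_univ] at hT'
    exact Set.univ_nonempty.ne_empty hT'
  -- every point generizes to the generic fibre
  have hgen : ∀ q : PrimeSpectrum B, ∃ s ∈ S, s ⤳ q := by
    intro q
    haveI : (nilradical A).IsPrime := hp₀
    haveI : q.asIdeal.LiesOver (q.asIdeal.under A) := ⟨rfl⟩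
    obtain ⟨Q', hle, hQ'p, hlo⟩ := Ideal.exists_ideal_le_liesOver_of_le (p := nilradical A) (q := q.asIdeal.under A)
      q.asIdeal (nilradical_le_prime _)
    refine ⟨⟨Q', hQ'p⟩, ?_, (PrimeSpectrum.le_iff_specializes _ _).1 hle⟩
    let L := Q'.ResidueField
    have hker : nilradical A ≤ RingHom.ker (algebraMap A L) := fun x hx => by
      rw [RingHom.mem_ker, IsScalarTower.algebraMap_apply A B L, Ideal.algebraMap_residueField_eq_zero]
      rw [hlo.over] at hx; exact hx
    let j : CAlg2.red A →+* L := Ideal.Quotient.lift (nilradical A) (algebraMap A L) fun x hx => hker hx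
    have hj : Function.Injective j := (injective_iff_map_eq_zero _).2 fun z hz => by
      obtain ⟨x, rfl⟩ := Ideal.Quotient.mk_surjective z
      rw [Ideal.Quotient.eq_zero_iff_mem, hlo.over]
      show algebraMap A B x ∈ Q'
      rw [← Ideal.algebraMap_residueField_eq_zero (I := Q'), ← IsScalarTower.algebraMap_apply A B L]
      exact hz
    let l : K →ₐ[A] L := { IsFractionRing.lift hj with
      commutes' := fun x => by
        show IsFractionRing.lift hj (algebraMap (CAlg2.red A) K (Ideal.Quotient.mk _ x)) = _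
        rw [IsFractionRing.lift_algebraMap]; rfl }
    let Φ : K ⊗[A] B →ₐ[A] L := Algebra.TensorProduct.lift l (IsScalarTower.toAlgHom A B L) fun _ _ => Commute.all _ _
    refine ⟨⟨RingHom.ker Φ.toRingHom, RingHom.ker_isPrime _⟩, PrimeSpectrum.ext (Ideal.ext fun x => ?_)⟩
    show Φ ((1 : K) ⊗ₜ[A] x) = 0 ↔ x ∈ Q'
    rw [Algebra.TensorProduct.lift_tmul, map_one, one_mul]
    exact Ideal.algebraMap_residueField_eq_zero
  have hSne : S.Nonempty := (hgen (IsLocalRing.closedPoint B)).imp fun s h => h.1
  haveI : Nonempty (PrimeSpectrum (K ⊗[A] B)) := hSne.elim fun _ ⟨P, _⟩ => ⟨P⟩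
  haveI : ConnectedSpace (PrimeSpectrum (K ⊗[A] B)) := by
    refine connectedSpace_iff_clopen.2 ⟨inferInstance, fun s hs => ?_⟩
    obtain ⟨e, he, rfl⟩ := PrimeSpectrum.isClopen_iff.1 hs
    rcases connected_generic_fibre A B hA he with rfl | rfl
    · left; simp
    · right; simp
  have hSc : _root_.IsConnected S := isConnected_range (PrimeSpectrum.continuous_comap φ.toRingHom)
  refine hSc.subset_closure hST fun q _ => ?_
  obtain ⟨s, hs, hsq⟩ := hgen q
  exact closure_mono (Set.singleton_subset_iff.2 hs) hsq.mem_closure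

end Groth.Agent.EGA43.ConnFlat
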