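import Groth.Prelude.Def_EGA4b
import Groth.Agent.EGA43.ConnFlat.Main
import Groth.Agent.CAlgH3.Branches
import Groth.Agent.CAlgH3.GeomConn
import Groth.Agent.CommAlg6.NormalTensor
import Groth.Agent.CommAlg6.GeomFib
import Groth.Agent.AbVarLib.PerfectReduced

/-!
# Geometric connectedness of formal fibres of Henselian local rings (EGA IV 18.9)

An idempotent of `L ⊗ Â`, `L` a finite extension of a residue field of `A`, is defined over the integral
closure of `A` in `L`, which is local when `A` is Henselian, with the same residue field as its base change.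
-/

set_option autoImplicit false
set_option backward.isDefEq.respectTransparency false
set_option linter.style.haveILetI false

universe u

open TensorProduct IsLocalRing

namespace Groth.Agent.EGA43.ConnFlat

open Groth.Agent

/-- An idempotent with bounded denominator which is defined over all members of a Krull family is
defined over the intersection. -/
theorem mem_range_of_family {A B K : Type u} [CommRing A] [CommRing B] [Algebra A B] [Module.Flat A B]
    [Field K] [Algebra A K] (R : Subring K) {𝒲 : Set (ValuationSubring K)} (h𝒲 : CAlgH3.KrullFamily.IsFamily R 𝒲)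
    (RA : Submodule A K) (hRA : (RA : Set K) = R) (hA : ∀ x, algebraMap A K x ∈ R)
    (hred : ∀ (F : Type u) [Field F] [Algebra A F], IsReduced (F ⊗[A] B))
    (c : K) {e : K ⊗[A] B} (he : IsIdempotentElem e)
    (hN : e ∈ LinearMap.range ((c • RA.subtype).rTensor B)) :
    e ∈ LinearMap.range (RA.subtype.rTensor B) := by
  classical
  have hAW : ∀ W ∈ 𝒲, ∀ x : A, algebraMap A K x ∈ W := fun W hW x => (h𝒲.mem_iff _).1 (hA x) W hW
  let WA : {W // W ∈ 𝒲} → Submodule A K := fun W =>
    { carrier := (W.1 : Set K)
      add_mem' := fun ha hb => W.1.add_mem _ _ ha hb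
      zero_mem' := W.1.zero_mem
      smul_mem' := fun c x hx => by
        rw [Algebra.smul_def]; exact W.1.mul_mem _ _ (hAW W.1 W.2 c) hx }
  have hWe : ∀ W, e ∈ LinearMap.range ((WA W).subtype.rTensor B) := fun W => by
    haveI := h𝒲.dvr W.1 W.2
    letI : Algebra A W.1 := ((algebraMap A K).codRestrict W.1 (hAW W.1 W.2)).toAlgebra
    haveI : IsScalarTower A W.1 K := IsScalarTower.of_algebraMap_eq fun _ => rfl
    obtain ⟨z, hz⟩ := idempotent_mem_range W.1 (hred _) he
    let j : W.1 →ₗ[A] ↥(WA W) :=
      LinearMap.codRestrict _ (IsScalarTower.toAlgHom A W.1 K).toLinearMap fun w => w.2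
    refine ⟨j.rTensor B z, ?_⟩
    rw [← LinearMap.rTensor_comp_apply, ← hz]
    rfl
  let F := ((h𝒲.finite c).toFinset).subtype (fun W => W ∈ 𝒲)
  let g : RA →ₗ[A] K := c • RA.subtype
  have hN' : e ∈ LinearMap.range ((LinearMap.range g).subtype.rTensor B) := by
    obtain ⟨z, rfl⟩ := hN
    refine ⟨g.rangeRestrict.rTensor B z, ?_⟩
    rw [← LinearMap.rTensor_comp_apply]
    rfl
  refine range_rTensor_mono ?_ (mem_range_finset_inf _ F WA hN' fun W _ => hWe W)
  rintro _ ⟨⟨x, rfl⟩, hxF⟩
  show g x ∈ (RA : Set K)
  rw [hRA]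
  refine (h𝒲.mem_iff (g x)).2 fun W hW => ?_
  by_cases hWF : c ∈ W
  · have hx : (x : K) ∈ R := hRA.le x.2
    exact W.mul_mem _ _ hWF ((h𝒲.mem_iff _).1 hx W hW)
  · exact (Finset.inf_le (f := WA) (b := ⟨W, hW⟩) (Finset.mem_subtype.2 ((h𝒲.finite _).mem_toFinset.2 ⟨hW, hWF⟩))) hxF

/-- An integral local algebra stays local after base change to an algebra with the same residue field. -/
theorem idempotent_trivial_of_residue {A A' B : Type u} [CommRing A] [IsLocalRing A] [CommRing A'] [IsLocalRing A']
    [Algebra A A'] [Algebra.IsIntegral A A'] [CommRing B] [IsLocalRing B] [Algebra A B]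
    [IsLocalHom (algebraMap A B)] (hres : ∀ b : B, ∃ a : A, b - algebraMap A B a ∈ maximalIdeal B)
    {e : A' ⊗[A] B} (he : IsIdempotentElem e) : e = 0 ∨ e = 1 := by
  classical
  let R := A' ⊗[A] B
  let inl : A' →ₐ[A] R := Algebra.TensorProduct.includeLeft
  let inr : B →ₐ[A] R := Algebra.TensorProduct.includeRight
  have hint : (inr : B →+* R).IsIntegral := by
    intro z
    induction z using TensorProduct.induction_on with
    | zero => exact RingHom.isIntegralElem_zero _
    | tmul x y =>
      rw [show x ⊗ₜ[A] y = inl x * inr y by show _ = (x ⊗ₜ[A] (1 : B)) * ((1 : A') ⊗ₜ[A] y); simp]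
      refine RingHom.IsIntegralElem.mul _ ?_ (RingHom.isIntegralElem_map _)
      obtain ⟨P, hP, hPx⟩ := Algebra.IsIntegral.isIntegral (R := A) x
      refine ⟨P.map (algebraMap A B), hP.map _, ?_⟩
      have h2 : Polynomial.eval₂ (algebraMap A R) (inl x) P = 0 := by
        rw [← inl.comp_algebraMap]
        exact (Polynomial.hom_eval₂ P (algebraMap A A') (inl : A' →+* R) x).symm.trans (by rw [hPx, map_zero])
      rw [Polynomial.eval₂_map]
      show Polynomial.eval₂ ((inr : B →+* R).comp (algebraMap A B)) (inl x) P = 0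
      rw [inr.comp_algebraMap]
      exact h2
    | add x y hx hy => exact RingHom.IsIntegralElem.add _ hx hy
  have hmax : ∀ M : Ideal R, M.IsMaximal →
      M.comap inl = maximalIdeal A' ∧ M.comap (inr : B →+* R) = maximalIdeal B := by
    intro M hM
    haveI : (M.comap (inr : B →+* R)).IsMaximal := Ideal.isMaximal_comap_of_isIntegral_of_isMaximal' _ hint M
    have h2 : M.comap (inr : B →+* R) = maximalIdeal B := IsLocalRing.eq_maximalIdeal inferInstance
    refine ⟨?_, h2⟩
    haveI : (M.comap inl).IsPrime := Ideal.comap_isPrime _ _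
    haveI : (M.comap inl).IsMaximal := by
      refine Ideal.isMaximal_of_isIntegral_of_isMaximal_comap (R := A) _ ?_
      have h4 : (maximalIdeal B).comap (algebraMap A B) = maximalIdeal A :=
        ((IsLocalRing.local_hom_TFAE (algebraMap A B)).out 0 4).1 ‹_›
      have h3 : (M.comap inl).comap (algebraMap A A') = maximalIdeal A := by
        rw [← h4, ← h2]
        ext x
        show inl (algebraMap A A' x) ∈ M ↔ inr (algebraMap A B x) ∈ M
        rw [inl.commutes, inr.commutes]
      rw [h3]; infer_instance
    exact IsLocalRing.eq_maximalIdeal inferInstance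
  obtain ⟨x, hx⟩ : ∃ x : A', ∀ M : Ideal R, M.IsMaximal → e - inl x ∈ M := by
    clear he
    induction e using TensorProduct.induction_on with
    | zero => exact ⟨0, fun M _ => by simp⟩
    | tmul y b =>
      obtain ⟨a, ha⟩ := hres b
      refine ⟨y * algebraMap A A' a, fun M hM => ?_⟩
      rw [show y ⊗ₜ[A] b = inl y * inr b by show _ = (y ⊗ₜ[A] (1 : B)) * ((1 : A') ⊗ₜ[A] b); simp,
        map_mul, inl.commutes, ← inr.commutes, ← mul_sub, ← map_sub]
      refine M.mul_mem_left _ ?_
      have : b - algebraMap A B a ∈ M.comap (inr : B →+* R) := by rw [(hmax M hM).2]; exact ha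
      exact this
    | add y z hy hz =>
      obtain ⟨y', hy'⟩ := hy
      obtain ⟨z', hz'⟩ := hz
      exact ⟨y' + z', fun M hM => by rw [map_add, add_sub_add_comm]; exact M.add_mem (hy' M hM) (hz' M hM)⟩
  by_cases hu : IsUnit x
  · right
    refine (IsIdempotentElem.iff_eq_one_of_isUnit ?_).1 he
    by_contra hnu
    obtain ⟨M, hM, hzM⟩ := exists_max_ideal_of_mem_nonunits hnu
    exact hM.ne_top (Ideal.eq_top_of_isUnit_mem _ (by simpa using M.sub_mem hzM (hx M hM)) (hu.map inl))
  · left
    have h1 : IsUnit (1 - e) := by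
      by_contra hnu
      obtain ⟨M, hM, hzM⟩ := exists_max_ideal_of_mem_nonunits hnu
      have hxM : inl x ∈ M := by
        have : x ∈ M.comap inl := by rw [(hmax M hM).1]; exact hu
        exact this
      have heM : e ∈ M := by simpa using M.add_mem (hx M hM) hxM
      exact hM.ne_top ((Ideal.eq_top_iff_one _).2 (by simpa using M.add_mem hzM heM))
    exact sub_eq_self.1 ((IsIdempotentElem.iff_eq_one_of_isUnit h1).1 he.one_sub)

/-- A domain integral over a Henselian local ring is local. -/
theorem isLocalRing_of_integral (A D : Type u) [CommRing A] [HenselianLocalRing A] [CommRing D] [IsDomain D]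
    [Algebra A D] [Algebra.IsIntegral A D] : IsLocalRing D := by
  haveI : Nontrivial D := inferInstance
  obtain ⟨M, hM⟩ := Ideal.exists_maximal D
  refine IsLocalRing.of_unique_max_ideal ⟨M, hM, fun M' hM' => ?_⟩
  refine hM'.eq_of_le hM.ne_top fun x hx => ?_
  let S := Algebra.adjoin A ({x} : Set D)
  haveI : Module.Finite A S :=
    Module.Finite.iff_fg.2 (fg_adjoin_of_finite (Set.finite_singleton x) fun y _ => Algebra.IsIntegral.isIntegral y)
  haveI : Algebra.IsIntegral S D := Algebra.IsIntegral.tower_top (R := A)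
  haveI : IsDomain S := inferInstance
  haveI : (M.comap (algebraMap S D)).IsMaximal := Ideal.isMaximal_comap_of_isIntegral_of_isMaximal M
  haveI : (M'.comap (algebraMap S D)).IsMaximal := Ideal.isMaximal_comap_of_isIntegral_of_isMaximal M'
  have h := CAlgH3.Branches.maximal_unique A S (M'.comap (algebraMap S D)) (M.comap (algebraMap S D))
  have hm : (⟨x, Algebra.subset_adjoin rfl⟩ : S) ∈ M'.comap (algebraMap S D) := hx
  rw [h] at hm
  exact hm

/-- Connectedness after finite extensions gives geometric connectedness. -/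
theorem connectedSpace_of_finite {k F : Type u} [Field k] [CommRing F] [Nontrivial F] [Algebra k F]
    (h0 : ∀ (D : Type u) [Field D] [Algebra k D] [Module.Finite k D] {e : D ⊗[k] F}, IsIdempotentElem e → e = 0 ∨ e = 1)
    (K : Type u) [Field K] [Algebra k K] : ConnectedSpace (PrimeSpectrum (K ⊗[k] F)) := by
  classical
  suffices h : ConnectedSpace (PrimeSpectrum (SeparableClosure k ⊗[k] F)) by
    have : ConnectedSpace ↥(CategoryTheory.Limits.pullback (CAlgH3.GeomBridge.str k F) (VarietyLib.sK k (SeparableClosure k))) :=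
      (CAlgH3.GeomBridge.homeo k F (SeparableClosure k)).surjective.connectedSpace
        (CAlgH3.GeomBridge.homeo k F (SeparableClosure k)).continuous
    have hg := VarietyLib.geometricallyConnected_of_connectedSpace k (CAlgH3.GeomBridge.str k F)
    haveI := (CAlgH3.GeomBridge.connected_iff k F).1 hg K
    exact ‹_›
  haveI : Nontrivial (SeparableClosure k ⊗[k] F) :=
    (Algebra.TensorProduct.includeRight_injective (A := SeparableClosure k) (B := F)
      (algebraMap k (SeparableClosure k)).injective).nontrivial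
  refine connectedSpace_iff_clopen.2 ⟨inferInstance, fun s hs => ?_⟩
  have hs' : IsClopen (s : Set (PrimeSpectrum (SeparableClosure k ⊗[k] F))) := hs
  obtain ⟨e, he, rfl⟩ := (PrimeSpectrum.isClopen_iff (R := SeparableClosure k ⊗[k] F)).1 hs'
  suffices e = 0 ∨ e = 1 by
    rcases this with rfl | rfl
    · left; simp
    · right; simp
  obtain ⟨D, hD, hxD⟩ := TensorProduct.Algebra.exists_of_fg e
  haveI : Algebra.IsIntegral k D := Algebra.IsIntegral.of_injective D.val Subtype.val_injective
  haveI : Algebra.FiniteType k D := ⟨Subalgebra.fg_top _ |>.2 hD⟩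
  haveI : Module.Finite k D := Algebra.IsIntegral.finite
  letI : Field D := (isField_of_isIntegral_of_isField' (R := k) (Field.toIsField k)).toField
  obtain ⟨e', he'⟩ := hxD
  let ι := Algebra.TensorProduct.map D.val (AlgHom.id k F)
  have hι : Function.Injective ι := injective_map_id D.val Subtype.val_injective
  have hιe : ι e' = e := he'
  have hi : IsIdempotentElem e' := idem_of_injective hι (hιe.symm ▸ he)
  rw [← hιe]
  exact (h0 D hi).imp (fun h => by rw [h, map_zero]) (fun h => by rw [h, map_one])

section Main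

variable {A B : Type u} [CommRing A] [HenselianLocalRing A] [IsNoetherianRing A] [CommRing B] [IsLocalRing B]
  [Algebra A B] [Module.Flat A B] [IsLocalHom (algebraMap A B)]
  (hloc : ∀ (A' : Type u) [CommRing A'] [IsLocalRing A'] [Algebra A A'] [Algebra.IsIntegral A A']
    (e : A' ⊗[A] B), IsIdempotentElem e → e = 0 ∨ e = 1)
  (hred : ∀ (F : Type u) [Field F] [Algebra A F], IsReduced (F ⊗[A] B))

include hloc hred in
theorem idempotent_trivial_finite (p : Ideal A) [p.IsPrime] (L : Type u) [Field L] [Algebra p.ResidueField L]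
    [Module.Finite p.ResidueField L] [Algebra A L] [IsScalarTower A p.ResidueField L]
    {e : L ⊗[A] B} (he : IsIdempotentElem e) : e = 0 ∨ e = 1 := by
  classical
  letI : Algebra (A ⧸ p) L := ((algebraMap p.ResidueField L).comp (algebraMap (A ⧸ p) p.ResidueField)).toAlgebra
  haveI : IsScalarTower (A ⧸ p) p.ResidueField L := IsScalarTower.of_algebraMap_eq' rfl
  haveI : IsScalarTower A (A ⧸ p) L := IsScalarTower.of_algebraMap_eq fun x => by
    rw [IsScalarTower.algebraMap_apply A p.ResidueField L]; rfl
  haveI : Algebra.IsIntegral A (A ⧸ p) := Algebra.IsIntegral.of_finite A _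
  let β := Module.finBasis p.ResidueField L
  obtain ⟨y, hy, hyint⟩ := exists_integral_multiples (A ⧸ p) p.ResidueField (Finset.univ.image β)
  obtain ⟨y, rfl⟩ := Ideal.Quotient.mk_surjective y
  let t : Set L := Set.range fun i => algebraMap A L y * β i
  let A₁ := Algebra.adjoin A t
  haveI : Module.Finite A A₁ := Module.Finite.iff_fg.2 (fg_adjoin_of_finite (Set.finite_range _) (by
    rintro _ ⟨i, rfl⟩
    have h1 := hyint (β i) (Finset.mem_image_of_mem _ (Finset.mem_univ i))
    rw [Algebra.smul_def] at h1
    rw [IsScalarTower.algebraMap_apply A (A ⧸ p) L]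
    exact isIntegral_trans (R := A) _ h1))
  haveI : IsNoetherianRing A₁ := IsNoetherianRing.of_finite A A₁
  haveI : Algebra.IsIntegral A A₁ := Algebra.IsIntegral.of_finite A A₁
  haveI : IsLocalRing A₁ := isLocalRing_of_integral A A₁
  have hyL : algebraMap A L y ≠ 0 := by
    rw [IsScalarTower.algebraMap_apply A p.ResidueField L]
    intro h0
    exact hy (Ideal.Quotient.eq_zero_iff_mem.2 (Ideal.algebraMap_residueField_eq_zero.1
      ((map_eq_zero_iff _ (algebraMap p.ResidueField L).injective).1 h0)))
  have hmem : ∀ x : A, algebraMap A L x ∈ A₁ := fun x => A₁.algebraMap_mem x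
  have hsurj : ∀ z : L, ∃ a b : A₁, (b : L) ≠ 0 ∧ z * b = a := by
    intro z
    have hz : z ∈ Submodule.span p.ResidueField (Set.range β) := by rw [β.span_eq]; trivial
    induction hz using Submodule.span_induction with
    | mem w hw =>
      obtain ⟨i, rfl⟩ := hw
      exact ⟨⟨_, Algebra.subset_adjoin ⟨i, rfl⟩⟩, ⟨_, hmem y⟩, hyL, mul_comm _ _⟩
    | zero => exact ⟨0, 1, one_ne_zero, by simp⟩
    | add u v _ _ hu hv =>
      obtain ⟨a, b, hb, hab⟩ := hu
      obtain ⟨a', b', hb', hab'⟩ := hv
      refine ⟨a * b' + a' * b, b * b', mul_ne_zero hb hb', ?_⟩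
      simp only [Subalgebra.coe_mul, Subalgebra.coe_add, ← hab, ← hab']
      ring
    | smul r u _ hu =>
      obtain ⟨a, b, hb, hab⟩ := hu
      obtain ⟨n, d, hd, hnd⟩ := IsFractionRing.div_surjective (A ⧸ p) r
      obtain ⟨n, rfl⟩ := Ideal.Quotient.mk_surjective n
      obtain ⟨d, rfl⟩ := Ideal.Quotient.mk_surjective d
      have hd0 : algebraMap A p.ResidueField d ≠ 0 := fun h0 => nonZeroDivisors.ne_zero hd
        (Ideal.Quotient.eq_zero_iff_mem.2 (Ideal.algebraMap_residueField_eq_zero.1 h0))
      have hd1 : algebraMap A L d ≠ 0 := by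
        rw [IsScalarTower.algebraMap_apply A p.ResidueField L]
        exact (map_ne_zero_iff _ (algebraMap p.ResidueField L).injective).2 hd0
      refine ⟨⟨_, hmem n⟩ * a, ⟨_, hmem d⟩ * b, mul_ne_zero hd1 hb, ?_⟩
      simp only [Subalgebra.coe_mul, ← hab, Algebra.smul_def, ← hnd, map_div₀,
        ← IsScalarTower.algebraMap_apply (A ⧸ p) p.ResidueField L]
      rw [show algebraMap (A ⧸ p) L (Ideal.Quotient.mk p n) = algebraMap A L n from
          (IsScalarTower.algebraMap_apply A (A ⧸ p) L n).symm,
        show algebraMap (A ⧸ p) L (Ideal.Quotient.mk p d) = algebraMap A L d from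
          (IsScalarTower.algebraMap_apply A (A ⧸ p) L d).symm]
      field_simp
  haveI : IsFractionRing A₁ L := IsFractionRing.of_field A₁ L fun z => by
    obtain ⟨a, b, hb, hab⟩ := hsurj z
    exact ⟨a, b, (eq_div_iff hb).2 hab⟩
  obtain ⟨𝒲, -, h𝒲, -, -⟩ := CAlgH3.Mori.exists_family A₁ L
  let A' := integralClosure A₁ L
  haveI : Algebra.IsIntegral A (↥A') := Algebra.IsIntegral.trans A₁
  haveI : IsLocalRing (↥A') := isLocalRing_of_integral A (↥A')
  let RA : Submodule A L := LinearMap.range (IsScalarTower.toAlgHom A (↥A') L).toLinearMap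
  have hRA : (RA : Set L) = A'.toSubring := by
    ext z
    exact ⟨fun ⟨w, hw⟩ => hw ▸ w.2, fun hz => ⟨⟨z, hz⟩, rfl⟩⟩
  obtain ⟨c, hc⟩ : ∃ c : L, e ∈ LinearMap.range ((c • RA.subtype).rTensor B) := by
    suffices ∃ (d : A₁) (_ : (d : L) ≠ 0) (z : ↥RA ⊗[A] B), RA.subtype.rTensor B z = ((d : L) ⊗ₜ[A] (1 : B)) * e by
      obtain ⟨d, hd, z, hz⟩ := this
      refine ⟨(d : L)⁻¹, z, ?_⟩
      have : ∀ w : ↥RA ⊗[A] B, (((d : L)⁻¹ • RA.subtype).rTensor B) w =
          ((d : L)⁻¹ ⊗ₜ[A] (1 : B)) * RA.subtype.rTensor B w := by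
        intro w
        induction w using TensorProduct.induction_on with
        | zero => simp
        | tmul r b => simp [Algebra.TensorProduct.tmul_mul_tmul]
        | add u v hu hv => simp only [map_add, hu, hv, mul_add]
      rw [this, hz, ← mul_assoc, Algebra.TensorProduct.tmul_mul_tmul, inv_mul_cancel₀ hd, one_mul,
        ← Algebra.TensorProduct.one_def, one_mul]
    clear he
    induction e using TensorProduct.induction_on with
    | zero => exact ⟨1, one_ne_zero, 0, by simp⟩
    | tmul k b =>
      obtain ⟨a, d, hd, had⟩ := hsurj k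
      refine ⟨d, hd, (⟨(a : L), ⟨⟨(a : L), A'.algebraMap_mem a⟩, rfl⟩⟩ : RA) ⊗ₜ b, ?_⟩
      rw [LinearMap.rTensor_tmul, Algebra.TensorProduct.tmul_mul_tmul, one_mul, mul_comm, had]
      rfl
    | add u v hu hv =>
      obtain ⟨d, hd, z, hz⟩ := hu
      obtain ⟨d', hd', z', hz'⟩ := hv
      let m : A₁ → (↥RA →ₗ[A] ↥RA) := fun s =>
        LinearMap.codRestrict RA ((s : L) • RA.subtype) fun r => by
          obtain ⟨w, hw⟩ := r.2
          exact ⟨algebraMap A₁ (↥A') s * w, congrArg (fun t => (s : L) * t) hw⟩
      have hm : ∀ s w, RA.subtype.rTensor B ((m s).rTensor B w) =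
          ((s : L) ⊗ₜ[A] (1 : B)) * RA.subtype.rTensor B w := by
        intro s w
        induction w using TensorProduct.induction_on with
        | zero => simp
        | tmul r b => simp [m, Algebra.TensorProduct.tmul_mul_tmul]
        | add u v hu hv => simp only [map_add, hu, hv, mul_add]
      refine ⟨d * d', mul_ne_zero hd hd', (m d').rTensor B z + (m d).rTensor B z', ?_⟩
      rw [map_add, hm, hm, hz, hz', mul_add, ← mul_assoc, ← mul_assoc, Algebra.TensorProduct.tmul_mul_tmul,
        Algebra.TensorProduct.tmul_mul_tmul, Subalgebra.coe_mul, mul_comm (d' : L) d, one_mul]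
  obtain ⟨z, hz⟩ := mem_range_of_family A'.toSubring h𝒲 RA hRA
    (fun x => hRA.le ⟨algebraMap A (↥A') x, (IsScalarTower.algebraMap_apply A (↥A') L x).symm⟩) hred c he hc
  obtain ⟨z', rfl⟩ := LinearMap.rTensor_surjective B
    (IsScalarTower.toAlgHom A (↥A') L).toLinearMap.surjective_rangeRestrict z
  rw [← LinearMap.rTensor_comp_apply] at hz
  have hz' : Algebra.TensorProduct.map (IsScalarTower.toAlgHom A (↥A') L) (AlgHom.id A B) z' = e := hz
  have hi : IsIdempotentElem z' := idem_of_injective
    (injective_map_id (IsScalarTower.toAlgHom A (↥A') L) (fun a b h => Subtype.ext h)) (hz'.symm ▸ he)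
  rw [← hz']
  exact (hloc _ _ hi).imp (fun h => by rw [h, map_zero]) (fun h => by rw [h, map_one])

include hloc hred in
theorem connectedSpace_field_tensor_of_loc (K : Type u) [Field K] [Algebra A K] :
    ConnectedSpace (PrimeSpectrum (K ⊗[A] B)) := by
  classical
  let p := RingHom.ker (algebraMap A K)
  haveI : p.IsPrime := RingHom.ker_isPrime _
  letI : Algebra p.ResidueField K := (Ideal.ResidueField.lift p (algebraMap A K) le_rfl
    (fun a ha => isUnit_iff_ne_zero.2 ha)).toAlgebra
  haveI : IsScalarTower A p.ResidueField K :=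
    IsScalarTower.of_algebraMap_eq fun x => (Ideal.ResidueField.lift_algebraMap ..).symm
  let k := p.ResidueField
  let F := k ⊗[A] B
  haveI : Nontrivial F := by
    obtain ⟨P, hPle, hP, hPo⟩ := Ideal.exists_ideal_le_liesOver_of_le (p := p) (q := (maximalIdeal B).under A)
      (maximalIdeal B) (by
        rw [show (maximalIdeal B).under A = maximalIdeal A from
          ((IsLocalRing.local_hom_TFAE (algebraMap A B)).out 0 4).1 ‹_›]
        exact IsLocalRing.le_maximalIdeal (Ideal.IsPrime.ne_top inferInstance))
    let l : k →ₐ[A] P.ResidueField := { Ideal.ResidueField.map p P (algebraMap A B) hPo.over with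
      commutes' := fun x => (Ideal.ResidueField.map_algebraMap ..).trans
        (IsScalarTower.algebraMap_apply A B P.ResidueField x).symm }
    exact (Algebra.TensorProduct.lift l (IsScalarTower.toAlgHom A B P.ResidueField)
      fun _ _ => Commute.all _ _).toRingHom.domain_nontrivial
  haveI := connectedSpace_of_finite (k := k) (F := F) (fun D _ _ _ e he => by
    letI : Algebra A D := ((algebraMap k D).comp (algebraMap A k)).toAlgebra
    haveI : IsScalarTower A k D := IsScalarTower.of_algebraMap_eq fun _ => rfl
    let τ := Algebra.TensorProduct.cancelBaseChange A k D D B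
    refine (idempotent_trivial_finite hloc hred p D (e := τ e) (he.map τ)).imp (fun h => ?_) (fun h => ?_)
    · exact (map_eq_zero_iff τ τ.injective).1 h
    · exact (map_eq_one_iff τ τ.injective).1 h) K
  let e := (Algebra.TensorProduct.cancelBaseChange A k K K B).toRingEquiv
  exact (PrimeSpectrum.homeomorphOfRingEquiv e).surjective.connectedSpace
    (PrimeSpectrum.homeomorphOfRingEquiv e).continuous

omit hloc hred

theorem connectedSpace_field_tensor (hres : ∀ b : B, ∃ a : A, b - algebraMap A B a ∈ maximalIdeal B)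
    (hred : ∀ (F : Type u) [Field F] [Algebra A F], IsReduced (F ⊗[A] B)) (K : Type u) [Field K] [Algebra A K] : ConnectedSpace (PrimeSpectrum (K ⊗[A] B)) :=
  connectedSpace_field_tensor_of_loc (fun _ _ _ _ _ _ he => idempotent_trivial_of_residue hres he) hred K

/-- Over a strictly Henselian local ring no assumption on the residue extension is needed. -/
theorem connectedSpace_field_tensor_of_isSepClosed [IsSepClosed (ResidueField A)]
    (hred : ∀ (F : Type u) [Field F] [Algebra A F], IsReduced (F ⊗[A] B)) (K : Type u) [Field K] [Algebra A K] : ConnectedSpace (PrimeSpectrum (K ⊗[A] B)) :=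
  connectedSpace_field_tensor_of_loc (fun A' _ _ _ _ e he => by
    haveI : IsLocalHom (algebraMap A A') := ((IsLocalRing.local_hom_TFAE (algebraMap A A')).out 4 0).1
      (IsLocalRing.eq_maximalIdeal (Ideal.isMaximal_comap_of_isIntegral_of_isMaximal (R := A) (maximalIdeal A')))
    haveI : IsScalarTower A (ResidueField A) (ResidueField A') := inferInstance
    haveI : Algebra.IsIntegral A (ResidueField A') := Algebra.IsIntegral.trans A'
    haveI : Algebra.IsIntegral (ResidueField A) (ResidueField A') :=
      Algebra.IsIntegral.tower_top (R := A)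
    haveI : IsPurelyInseparable (ResidueField A) (ResidueField A') := inferInstance
    refine idempotent_trivial_of_isLocal (ringExpChar (ResidueField A'))
      (inferInstanceAs (ExpChar (ResidueField A') _)) (fun x => ?_) he
    haveI : ExpChar (ResidueField A) (ringExpChar (ResidueField A')) :=
      (algebraMap (ResidueField A) (ResidueField A')).expChar
        (algebraMap (ResidueField A) (ResidueField A')).injective _
    obtain ⟨n, y, hy⟩ := IsPurelyInseparable.pow_mem (ResidueField A) (ringExpChar (ResidueField A'))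
      (IsLocalRing.residue A' x)
    obtain ⟨c, rfl⟩ := IsLocalRing.residue_surjective y
    exact ⟨n, c, Ideal.Quotient.eq.1 ((map_pow (Ideal.Quotient.mk _) x _).trans hy.symm)⟩) hred K

end Main

end Groth.Agent.EGA43.ConnFlat
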