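import Groth.Agent.EGA43.ConnFlat.Henselian

/-!
# Formal fibres of Henselian local rings are geometrically connected, resp. integral
-/

set_option autoImplicit false
set_option backward.isDefEq.respectTransparency false
set_option linter.style.haveILetI false

universe u

open TensorProduct IsLocalRing

namespace Groth.Agent.EGA43.ConnFlat

open Groth.Agent

/-- Geometrically reduced fibres stay reduced after every field extension. -/
theorem isReduced_of_geomReduced {A B : Type u} [CommRing A] [CommRing B] [Algebra A B]
    (h : ∀ (p : Ideal A) [p.IsPrime], Algebra.IsGeometricallyReduced p.ResidueField (p.Fiber B))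
    (F : Type u) [Field F] [Algebra A F] : IsReduced (F ⊗[A] B) := by
  let p := RingHom.ker (algebraMap A F)
  haveI : p.IsPrime := RingHom.ker_isPrime _
  letI : Algebra p.ResidueField F := (Ideal.ResidueField.lift p (algebraMap A F) le_rfl
    (fun a ha => isUnit_iff_ne_zero.2 ha)).toAlgebra
  haveI : IsScalarTower A p.ResidueField F :=
    IsScalarTower.of_algebraMap_eq fun x => (Ideal.ResidueField.lift_algebraMap ..).symm
  let Ω := AlgebraicClosure F
  let k := AlgebraicClosure p.ResidueField
  letI : Algebra k Ω := (IsAlgClosed.lift : k →ₐ[p.ResidueField] Ω).toRingHom.toAlgebra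
  haveI : IsScalarTower p.ResidueField k Ω :=
    IsScalarTower.of_algebraMap_eq fun x => ((IsAlgClosed.lift : k →ₐ[p.ResidueField] Ω).commutes x).symm
  haveI : IsReduced (k ⊗[p.ResidueField] p.Fiber B) := (Algebra.isGeometricallyReduced_field_iff _ _).1 (h p)
  haveI := AbVarLib.isReduced_field_tensor_perfect k Ω (k ⊗[p.ResidueField] p.Fiber B)
  haveI : IsReduced (Ω ⊗[p.ResidueField] p.Fiber B) :=
    isReduced_of_injective (Algebra.TensorProduct.cancelBaseChange p.ResidueField k Ω Ω (p.Fiber B)).symm
      (Algebra.TensorProduct.cancelBaseChange p.ResidueField k Ω Ω (p.Fiber B)).symm.injective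
  haveI : IsReduced (Ω ⊗[A] B) :=
    isReduced_of_injective (Algebra.TensorProduct.cancelBaseChange A p.ResidueField Ω Ω B).symm
      (Algebra.TensorProduct.cancelBaseChange A p.ResidueField Ω Ω B).symm.injective
  haveI : IsReduced (F ⊗[p.ResidueField] p.Fiber B) :=
    isReduced_of_injective (Algebra.TensorProduct.map (IsScalarTower.toAlgHom p.ResidueField F Ω) (AlgHom.id _ _))
      (injective_map_id _ (IsScalarTower.toAlgHom p.ResidueField F Ω).toRingHom.injective)
  exact isReduced_of_injective (Algebra.TensorProduct.cancelBaseChange A p.ResidueField F F B).symm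
    (Algebra.TensorProduct.cancelBaseChange A p.ResidueField F F B).symm.injective

/-- Being a domain after finite extensions gives geometric integrality. -/
theorem isDomain_tensor_of_finite {k F : Type u} [Field k] [CommRing F] [Algebra k F]
    (hfin : ∀ (D : Type u) [Field D] [Algebra k D] [Module.Finite k D], IsDomain (D ⊗[k] F))
    (K : Type u) [Field K] [Algebra k K] : IsDomain (K ⊗[k] F) := by
  classical
  haveI : IsDomain (k ⊗[k] F) := hfin k
  haveI : Nontrivial F := (Algebra.TensorProduct.lid k F).symm.toEquiv.nontrivial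
  let Ω := AlgebraicClosure K
  let k' := AlgebraicClosure k
  haveI : Nontrivial (k' ⊗[k] F) :=
    (Algebra.TensorProduct.includeRight_injective (A := k') (B := F) (algebraMap k k').injective).nontrivial
  haveI : NoZeroDivisors (k' ⊗[k] F) := ⟨fun {x y} hxy => by
    obtain ⟨D₁, hD₁, hx⟩ := TensorProduct.Algebra.exists_of_fg x
    obtain ⟨D₂, hD₂, hy⟩ := TensorProduct.Algebra.exists_of_fg y
    let D := D₁ ⊔ D₂
    haveI : Algebra.IsIntegral k D := Algebra.IsIntegral.of_injective D.val Subtype.val_injective
    haveI : Algebra.FiniteType k D := ⟨Subalgebra.fg_top _ |>.2 (hD₁.sup hD₂)⟩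
    haveI : Module.Finite k D := Algebra.IsIntegral.finite
    letI : Field D := (isField_of_isIntegral_of_isField' (R := k) (Field.toIsField k)).toField
    haveI := hfin D
    let ι := Algebra.TensorProduct.map D.val (AlgHom.id k F)
    have hι : Function.Injective ι := injective_map_id D.val Subtype.val_injective
    obtain ⟨x₁, rfl⟩ := hx
    obtain ⟨y₁, rfl⟩ := hy
    let x' := Algebra.TensorProduct.map (Subalgebra.inclusion (le_sup_left : D₁ ≤ D)) (AlgHom.id k F) x₁
    let y' := Algebra.TensorProduct.map (Subalgebra.inclusion (le_sup_right : D₂ ≤ D)) (AlgHom.id k F) y₁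
    have hx' : ι x' = Algebra.TensorProduct.map D₁.val (AlgHom.id k F) x₁ := by
      rw [← AlgHom.comp_apply, ← Algebra.TensorProduct.map_comp]; rfl
    have hy' : ι y' = Algebra.TensorProduct.map D₂.val (AlgHom.id k F) y₁ := by
      rw [← AlgHom.comp_apply, ← Algebra.TensorProduct.map_comp]; rfl
    have hxy' : Algebra.TensorProduct.map D₁.val (AlgHom.id k F) x₁ *
        Algebra.TensorProduct.map D₂.val (AlgHom.id k F) y₁ = 0 := hxy
    rw [← hx', ← hy', ← map_mul] at hxy'
    rcases mul_eq_zero.1 ((map_eq_zero_iff ι hι).1 hxy') with h | h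
    · left
      show Algebra.TensorProduct.map D₁.val (AlgHom.id k F) x₁ = 0
      rw [← hx', h, map_zero]
    · right
      show Algebra.TensorProduct.map D₂.val (AlgHom.id k F) y₁ = 0
      rw [← hy', h, map_zero]⟩
  haveI : IsDomain (k' ⊗[k] F) := NoZeroDivisors.to_isDomain _
  letI : Algebra k' Ω := (IsAlgClosed.lift : k' →ₐ[k] Ω).toRingHom.toAlgebra
  haveI : IsScalarTower k k' Ω :=
    IsScalarTower.of_algebraMap_eq fun x => ((IsAlgClosed.lift : k' →ₐ[k] Ω).commutes x).symm
  haveI := VarietyLib.isDomain_tensor_of_isAlgClosed k' Ω (k' ⊗[k] F)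
  haveI : IsDomain (Ω ⊗[k] F) :=
    (Algebra.TensorProduct.cancelBaseChange k k' Ω Ω F).toMulEquiv.symm.isDomain
  haveI : Nontrivial (K ⊗[k] F) :=
    (Algebra.TensorProduct.includeRight_injective (A := K) (B := F) (algebraMap k K).injective).nontrivial
  exact Function.Injective.isDomain (Algebra.TensorProduct.map (IsScalarTower.toAlgHom k K Ω) (AlgHom.id k F))
    (injective_map_id _ (IsScalarTower.toAlgHom k K Ω).toRingHom.injective)

theorem isNoetherianRing_fiber {A B : Type u} [CommRing A] [CommRing B] [Algebra A B] [IsNoetherianRing B]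
    (p : Ideal A) [p.IsPrime] : IsNoetherianRing (p.Fiber B) := by
  haveI : Algebra.EssFiniteType B (B ⊗[A] p.ResidueField) := Algebra.EssFiniteType.baseChange ..
  haveI := Algebra.EssFiniteType.isNoetherianRing B (B ⊗[A] p.ResidueField)
  exact isNoetherianRing_of_ringEquiv _ (Algebra.TensorProduct.comm A B p.ResidueField).toRingEquiv

variable (A : Type u) [CommRing A] [IsLocalRing A]

theorem exists_sub_mem_cpl [IsNoetherianRing A] :
    IsLocalHom (algebraMap A (EGA4.Cpl A)) ∧
      ∀ b : EGA4.Cpl A, ∃ a : A, b - algebraMap A (EGA4.Cpl A) a ∈ maximalIdeal (EGA4.Cpl A) := by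
  let ε := (AdicCompletion.evalOneₐ (maximalIdeal A)).toRingHom
  have hs : Function.Surjective ε := AdicCompletion.evalOneₐ_surjective _
  haveI : (RingHom.ker ε).IsMaximal := by
    letI := Ideal.Quotient.field (maximalIdeal A)
    exact RingHom.ker_isMaximal_of_surjective ε hs
  have hk : RingHom.ker ε = maximalIdeal (EGA4.Cpl A) := IsLocalRing.eq_maximalIdeal inferInstance
  have hε : ∀ a, ε (algebraMap A (EGA4.Cpl A) a) = Ideal.Quotient.mk (maximalIdeal A) a := fun a =>
    RingHom.congr_fun (AdicCompletion.evalOneₐ_comp_algebraMap_eq_mk (maximalIdeal A)) a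
  refine ⟨⟨fun a ha => ?_⟩, fun b => ?_⟩
  · by_contra h
    have : algebraMap A (EGA4.Cpl A) a ∈ maximalIdeal (EGA4.Cpl A) := by
      rw [← hk, RingHom.mem_ker, hε]
      exact Ideal.Quotient.eq_zero_iff_mem.2 h
    exact this ha
  · obtain ⟨a, ha⟩ := Ideal.Quotient.mk_surjective (ε b)
    exact ⟨a, by rw [← hk, RingHom.mem_ker, map_sub, hε, ha, sub_self]⟩

/-- EGA IV 18.9.1: geometric connectedness of the formal fibres. -/
theorem connectedSpace_formalFibre [HenselianLocalRing A] [IsNoetherianRing A]
    (h : EGA4.HasGeomReducedFormalFibres A) (K : Type u) [Field K] [Algebra A K] :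
    ConnectedSpace (PrimeSpectrum (K ⊗[A] EGA4.Cpl A)) := by
  obtain ⟨hloc, hres⟩ := exists_sub_mem_cpl A
  haveI := hloc
  exact connectedSpace_field_tensor hres (fun F _ _ => isReduced_of_geomReduced h F) K

theorem geomReduced_of_geomNormal (h : EGA4.HasGeomNormalFormalFibres A) : EGA4.HasGeomReducedFormalFibres A := by
  intro p _
  rw [Algebra.isGeometricallyReduced_field_iff]
  exact CommAlg6.isReduced_tensor_of_finite_subalgebras _ _ _
    fun k' _ _ hk' => CommAlg6.NormalTensor.isReduced_of_isNormalRing (h p k' hk')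

/-- EGA IV 18.9.1: the formal fibres are geometrically integral when they are geometrically normal. -/
theorem isDomain_baseChange_formalFibre [HenselianLocalRing A] [IsNoetherianRing A]
    (hA : EGA4.HasGeomNormalFormalFibres A) (p : Ideal A) [p.IsPrime]
    (K : Type u) [Field K] [Algebra p.ResidueField K] :
    IsDomain (TensorProduct p.ResidueField K (EGA4.formalFibre A p)) := by
  classical
  let k := p.ResidueField
  let F := EGA4.formalFibre A p
  have hfin : ∀ (D : Type u) [Field D] [Algebra k D] [Module.Finite k D], IsDomain (D ⊗[k] F) := by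
    intro D _ _ _
    letI : Algebra A D := ((algebraMap k D).comp (algebraMap A k)).toAlgebra
    haveI : IsScalarTower A k D := IsScalarTower.of_algebraMap_eq fun _ => rfl
    haveI := connectedSpace_formalFibre A (geomReduced_of_geomNormal A hA) D
    let τ := Algebra.TensorProduct.cancelBaseChange A k D D (EGA4.Cpl A)
    haveI : Nontrivial (D ⊗[A] EGA4.Cpl A) := PrimeSpectrum.nonempty_iff_nontrivial.1 inferInstance
    haveI : Nontrivial (D ⊗[k] F) := τ.toEquiv.nontrivial
    haveI : IsNoetherianRing F := isNoetherianRing_fiber p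
    haveI : IsNoetherianRing (F ⊗[k] D) := IsNoetherianRing.of_finite F (F ⊗[k] D)
    haveI : IsNoetherianRing (D ⊗[k] F) :=
      isNoetherianRing_of_ringEquiv _ (Algebra.TensorProduct.comm k F D).toRingEquiv
    refine CommAlg6.NormalTensor.isDomain_of_no_idempotent (hA p D inferInstance) fun e he => ?_
    exact (CAlgH3.GeomBridge.isIdempotentElem_trivial_of_connected _ (he.map τ)).imp
      (fun h => (map_eq_zero_iff τ τ.injective).1 h) (fun h => (map_eq_one_iff τ τ.injective).1 h)
  exact isDomain_tensor_of_finite hfin K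

/-- EGA IV 18.9.2: the completion of a Henselian domain with geometrically normal formal fibres is a domain. -/
theorem isDomain_cpl [HenselianLocalRing A] [IsNoetherianRing A] [IsDomain A]
    (h : EGA4.HasGeomNormalFormalFibres A) : IsDomain (EGA4.Cpl A) := by
  let p : Ideal A := ⊥
  haveI : p.IsPrime := Ideal.isPrime_bot
  haveI := isDomain_baseChange_formalFibre A h p p.ResidueField
  let e := Algebra.TensorProduct.lid p.ResidueField (EGA4.formalFibre A p)
  haveI : IsDomain (EGA4.formalFibre A p) := e.toMulEquiv.symm.isDomain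
  refine Function.Injective.isDomain
    (Algebra.TensorProduct.includeRight : EGA4.Cpl A →ₐ[A] EGA4.formalFibre A p) ?_
  refine Algebra.TensorProduct.includeRight_injective ?_
  rw [injective_iff_map_eq_zero]
  exact fun a ha => Ideal.algebraMap_residueField_eq_zero.1 ha

end Groth.Agent.EGA43.ConnFlat
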